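import Cfsg.Agent.CLAS.WU.Bas

/-! Invariant sets of vectors in odd dimension are large. -/

set_option autoImplicit false

namespace CL.WU.DegA2

open Module CL.Witt CL.Uni Cfsg

variable {F : Type*} [Field F] [Fintype F] {q : ℕ} {hF : Fintype.card F = q ^ 2}
  {V : Type*} [AddCommGroup V] [Module F V] [FiniteDimensional F V] {f : Form (HT hF) V}

theorem card_iso (hf : f.Nondeg) {k : ℕ} (hk : finrank F V = 2 * k + 1) :
    Set.ncard {v : V | f.q v = 0} = (q ^ (2 * k) * q + 1) * (q ^ (2 * k) - 1) + 1 := by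
  have h1 := card_q_eq hf hk 0
  rw [FormCount.card_hermForm_eq_zero hF, if_neg (by simp), Nat.add_sub_cancel, pow_succ] at h1
  rw [← h1, ← Nat.card_coe_set_eq]
  rfl

theorem card_big (hf : f.Nondeg) (hodd : Odd (finrank F V)) (Ω : Set V)
    (hO : ∀ g : f.O, ∀ y ∈ Ω, g.1 y ∈ Ω) (hs : ∀ c : F, c ≠ 0 → ∀ y ∈ Ω, c • y ∈ Ω) {y : V}
    (hy : y ∈ Ω) (hy0 : y ≠ 0) : q ^ (finrank F V + 2) < (q + 1) * Nat.card Ω + q := by
  have : Finite V := Module.finite_of_finite F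
  obtain ⟨k, hk⟩ := hodd
  have hq := two_le_q (hF := hF)
  have h0 := card_iso hf hk
  have ha : 1 ≤ q ^ (2 * k) := Nat.one_le_pow _ _ (by omega)
  rw [Nat.card_coe_set_eq, hk, show q ^ (2 * k + 1 + 2) = q ^ (2 * k) * q ^ 3 by ring]
  by_cases hyq : f.q y = 0
  · have hsub : {v : V | f.q v = 0} \ {0} ⊆ Ω := by
      rintro v ⟨hv, hv0⟩
      obtain ⟨g, hg, e⟩ := hf.witt_vector hy0 (y := v) hv0 (hyq.trans (Eq.symm hv))
      exact e ▸ hO ⟨g, hg⟩ y hy
    have h1 := Set.ncard_le_ncard hsub (Set.toFinite _)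
    rw [Set.ncard_sdiff_singleton_of_mem (by simp [f.q_zero]), h0, Nat.add_sub_cancel] at h1
    have h2 : 0 < Set.ncard ({v : V | f.q v = 0} \ {0}) :=
      (Set.ncard_pos (Set.toFinite _)).2 ⟨y, hyq, hy0⟩
    rw [Set.ncard_sdiff_singleton_of_mem (by simp [f.q_zero]), h0, Nat.add_sub_cancel] at h2
    have hk0 : k ≠ 0 := by
      rintro rfl
      simp at h2
    have h3 : q ^ 2 ≤ q ^ (2 * k) := Nat.pow_le_pow_right (by omega) (by omega)
    generalize q ^ (2 * k) = a at *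
    obtain ⟨b, rfl⟩ : ∃ b, a = b + 1 := ⟨a - 1, by omega⟩
    rw [Nat.add_sub_cancel] at h1
    have h4 : q ^ 2 ≤ (q + 1) * b := by nlinarith
    calc (b + 1) * q ^ 3 = q ^ 2 * ((b + 1) * q) := by ring
      _ ≤ (q + 1) * b * ((b + 1) * q + 1) := Nat.mul_le_mul h4 (Nat.le_succ _)
      _ = (q + 1) * (((b + 1) * q + 1) * b) := by ring
      _ ≤ (q + 1) * Ω.ncard := Nat.mul_le_mul_left _ h1
      _ < _ := by omega
  · have hsub : {v : V | f.q v = 0}ᶜ ⊆ Ω := by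
      intro v hv
      obtain ⟨g, c, hc, e⟩ := exists_smul_eq hf (u := y) (v := v) (by rwa [← f.herm_q])
        (by rw [← f.herm_q]; exact hv)
      have := hs c⁻¹ (inv_ne_zero hc) _ (hO g y hy)
      rwa [e, inv_smul_smul₀ hc] at this
    have h1 := Set.ncard_le_ncard hsub (Set.toFinite _)
    have h2 := Set.ncard_add_ncard_compl {v : V | f.q v = 0} (Set.toFinite _) (Set.toFinite _)
    have h3 : Nat.card V = q ^ (2 * k) * q ^ (2 * k) * q ^ 2 := by
      rw [Module.natCard_eq_pow_finrank (K := F), Nat.card_eq_fintype_card, hF, hk]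
      ring
    rw [h0, h3] at h2
    generalize q ^ (2 * k) = a at *
    obtain ⟨b, rfl⟩ : ∃ b, a = b + 1 := ⟨a - 1, by omega⟩
    obtain ⟨r, rfl⟩ : ∃ r, q = r + 1 := ⟨q - 1, by omega⟩
    rw [Nat.add_sub_cancel] at h2
    have h4 : ({v : V | f.q v = 0}ᶜ).ncard = r * (b + 1) * ((b + 1) * (r + 1) + 1) := by
      nlinarith
    rw [h4] at h1
    have h5 : (b + 1) * (r + 1) ^ 3 ≤ (r + 1 + 1) * (r * (b + 1) * ((b + 1) * (r + 1) + 1)) := by
      have h6 : (r + 1) ^ 3 ≤ (r + 2) * r * (r + 2) := by nlinarith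
      have h7 : r + 2 ≤ (b + 1) * (r + 1) + 1 := by nlinarith
      calc (b + 1) * (r + 1) ^ 3 ≤ (b + 1) * ((r + 2) * r * ((b + 1) * (r + 1) + 1)) :=
            Nat.mul_le_mul_left _ (h6.trans (Nat.mul_le_mul_left _ h7))
        _ = _ := by ring
    have h8 := Nat.mul_le_mul_left (r + 1 + 1) h1
    omega

end CL.WU.DegA2
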