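import Cfsg.Agent.CLAS.WU.Bas

/-! Hilbert 90 counts in a finite local ring with a semilinear involution. -/

set_option autoImplicit false

namespace CL.WU.OddH

open CL.Uni

variable {F : Type*} [Field F] [Fintype F] {q : ℕ}
  {R : Type*} [CommRing R] [Algebra F R]

/-- Elements `e`, `d` with `d (e - s e) = 1`, `s d = -d`. -/
theorem exists_ed (hF : Fintype.card F = q ^ 2) (s : R →+* R)
    (hsF : ∀ c : F, s (algebraMap F R c) = algebraMap F R (c ^ q)) :
    ∃ e d : R, d * (e - s e) = 1 ∧ s d = -d := by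
  obtain ⟨ε, hε⟩ : ∃ ε : F, sig hF ε ≠ ε := by
    by_contra h
    push Not at h
    exact sig_ne_id hF (RingHom.ext h)
  have h0 : ε - sig hF ε ≠ 0 := sub_ne_zero.2 hε.symm
  refine ⟨algebraMap F R ε, algebraMap F R (ε - sig hF ε)⁻¹, ?_, ?_⟩
  · rw [hsF, ← sig_apply hF, ← map_sub, ← map_mul, inv_mul_cancel₀ h0, map_one]
  · rw [hsF, ← sig_apply hF, map_inv₀, map_sub, sig_sig, ← map_neg, ← inv_neg, neg_sub]

theorem card_fix (hF : Fintype.card F = q ^ 2) (s : R →+* R) (hs : ∀ x, s (s x) = x)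
    (hsF : ∀ c : F, s (algebraMap F R c) = algebraMap F R (c ^ q)) (I : Ideal R)
    (hI : ∀ x ∈ I, s x ∈ I) : Nat.card {x // x ∈ I ∧ s x = x} ^ 2 = Nat.card I := by
  obtain ⟨e, d, h1, h2⟩ := exists_ed hF s hsF
  rw [sq, ← Nat.card_prod]
  refine Nat.card_congr
    { toFun := fun p => ⟨p.1.1 + e * p.2.1, I.add_mem p.1.2.1 (I.mul_mem_left _ p.2.2.1)⟩
      invFun := fun x => (⟨x.1 - e * (d * (x.1 - s x.1)),
        I.sub_mem x.2 (I.mul_mem_left _ (I.mul_mem_left _ (I.sub_mem x.2 (hI _ x.2)))), ?_⟩,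
        ⟨d * (x.1 - s x.1), I.mul_mem_left _ (I.sub_mem x.2 (hI _ x.2)), ?_⟩)
      left_inv := ?_
      right_inv := ?_ }
  · simp only [map_sub, map_mul, hs, h2]
    linear_combination (x.1 - s x.1) * h1
  · simp only [map_sub, map_mul, hs, h2]
    ring
  · rintro ⟨⟨a, ha, ha'⟩, ⟨b, hb, hb'⟩⟩
    simp only [map_add, map_mul, ha', hb', Prod.mk.injEq, Subtype.mk.injEq]
    exact ⟨by linear_combination (-(e * b)) * h1, by linear_combination b * h1⟩
  · rintro ⟨x, hx⟩
    simp only [Subtype.mk.injEq]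
    ring

/-- The homomorphism `b ↦ b / s b` on a group of units. -/
theorem key (s : R →+* R) (U : Subgroup Rˣ) :
    Nat.card {a : R // ∃ b ∈ U, a * s b = b} * Nat.card {b : Rˣ // b ∈ U ∧ s b = b} =
      Nat.card U := by
  let φ : U →* Rˣ := U.subtype / (Units.map (s : R →* R)).comp U.subtype
  have hφ : ∀ b : U, (φ b : R) * s (b : Rˣ) = (b : Rˣ) := fun b => by
    have : φ b * Units.map (s : R →* R) (b : Rˣ) = b := by
      simp [φ]
    simpa using congrArg Units.val this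
  have hu : ∀ (b : U) (a : R), a * s (b : Rˣ) = (b : Rˣ) → a = φ b := fun b a h =>
    (Units.map (s : R →* R) (b : Rˣ)).isUnit.mul_right_cancel (h.trans (hφ b).symm)
  rw [← φ.ker.index_mul_card, Subgroup.index_ker]
  congr 1
  · refine (Nat.card_eq_of_bijective (fun x : φ.range => (⟨((x : Rˣ) : R), ?_⟩ :
      {a : R // ∃ b ∈ U, a * s b = b})) ⟨?_, ?_⟩).symm
    · obtain ⟨b, hb⟩ := x.2
      exact ⟨b, b.2, hb ▸ hφ b⟩
    · intro x y h
      exact Subtype.ext (Units.ext (congrArg Subtype.val h))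
    · rintro ⟨a, b, hb, h⟩
      exact ⟨⟨φ ⟨b, hb⟩, _, rfl⟩, Subtype.ext (hu ⟨b, hb⟩ a h).symm⟩
  · refine (Nat.card_eq_of_bijective (fun x : φ.ker => (⟨((x : U) : Rˣ), (x : U).2, ?_⟩ :
      {b : Rˣ // b ∈ U ∧ s b = b})) ⟨?_, ?_⟩).symm
    · have := hφ x
      rwa [(MonoidHom.mem_ker.1 x.2 : φ x = 1), Units.val_one, one_mul] at this
    · intro x y h
      have h' : ((x : U) : Rˣ) = ((y : U) : Rˣ) :=
        congrArg (fun z : {b : Rˣ // b ∈ U ∧ s b = b} => z.1) h
      exact Subtype.ext (Subtype.ext h')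
    · rintro ⟨b, hb, h⟩
      refine ⟨⟨⟨b, hb⟩, MonoidHom.mem_ker.2 (Units.ext ?_)⟩, rfl⟩
      exact (hu ⟨b, hb⟩ 1 (by rw [one_mul]; exact h)).symm

theorem norm_of (s : R →+* R) (hs : ∀ x, s (s x) = x) {a : R} {b : Rˣ} (h : a * s b = b) :
    a * s a = 1 := by
  have h2 := congrArg s h
  rw [map_mul, hs] at h2
  apply b.isUnit.mul_right_cancel
  rw [mul_assoc, h2, h, one_mul]

variable [IsLocalRing R]

theorem card_norm (hF : Fintype.card F = q ^ 2) (s : R →+* R) (hs : ∀ x, s (s x) = x)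
    (hsF : ∀ c : F, s (algebraMap F R c) = algebraMap F R (c ^ q)) :
    Nat.card {a : R // a * s a = 1} * Nat.card {b : Rˣ // s b = b} = Nat.card Rˣ := by
  obtain ⟨e, d, h1, -⟩ := exists_ed hF s hsF
  rw [← Subgroup.card_top (G := Rˣ), ← key s ⊤]
  congr 1
  · refine Nat.card_congr (Equiv.subtypeEquivRight fun a => ⟨fun h => ?_, ?_⟩)
    · have h90 : ∀ c : R, a * s (c + a * s c) = c + a * s c := fun c => by
        rw [map_add, map_mul, hs]
        linear_combination c * h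
      by_cases hb : IsUnit (1 + a * s 1)
      · exact ⟨hb.unit, trivial, h90 1⟩
      by_cases hb' : IsUnit (e + a * s e)
      · exact ⟨hb'.unit, trivial, h90 e⟩
      exfalso
      have hm := (IsLocalRing.maximalIdeal R).sub_mem
        ((IsLocalRing.maximalIdeal R).mul_mem_left e
          ((IsLocalRing.mem_maximalIdeal _).2 hb)) ((IsLocalRing.mem_maximalIdeal _).2 hb')
      refine (IsLocalRing.mem_maximalIdeal _).1 hm (IsUnit.of_mul_eq_one (s a * d) ?_)
      rw [map_one]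
      linear_combination (a * s a) * h1 + h
    · rintro ⟨b, -, h⟩
      exact norm_of s hs h
  · exact Nat.card_congr (Equiv.subtypeEquivRight fun b => by simp)

/-- The units congruent to `1` modulo `I`. -/
def UI (I : Ideal R) : Subgroup Rˣ := (Units.map (Ideal.Quotient.mk I : R →* R ⧸ I)).ker

omit [IsLocalRing R] in
theorem mem_UI {I : Ideal R} {b : Rˣ} : b ∈ UI I ↔ (b : R) - 1 ∈ I := by
  rw [UI, MonoidHom.mem_ker, Units.ext_iff, ← Ideal.Quotient.eq]
  simp

theorem unit_add {I : Ideal R} (hIm : I ≤ IsLocalRing.maximalIdeal R) {x : R} (hx : x ∈ I) :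
    IsUnit (1 + x) := by
  have := IsLocalRing.isUnit_one_sub_self_of_mem_nonunits (-x)
    ((IsLocalRing.mem_maximalIdeal _).1 (hIm (I.neg_mem hx)))
  rwa [sub_neg_eq_add] at this

theorem card_UI {I : Ideal R} (hIm : I ≤ IsLocalRing.maximalIdeal R) (P : R → Prop) :
    Nat.card {b : Rˣ // b ∈ UI I ∧ P (b - 1)} = Nat.card {x // x ∈ I ∧ P x} := by
  refine Nat.card_eq_of_bijective (fun b => ⟨(b.1 : R) - 1, mem_UI.1 b.2.1, b.2.2⟩) ⟨?_, ?_⟩
  · intro x y h
    exact Subtype.ext (Units.ext (sub_left_injective (congrArg Subtype.val h)))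
  · rintro ⟨x, hx, hP⟩
    exact ⟨⟨(unit_add hIm hx).unit, mem_UI.2 (by simpa), by simpa⟩, Subtype.ext (by simp)⟩

theorem card_norm_I [Finite R] (hF : Fintype.card F = q ^ 2) (s : R →+* R)
    (hs : ∀ x, s (s x) = x)
    (hsF : ∀ c : F, s (algebraMap F R c) = algebraMap F R (c ^ q)) (I : Ideal R)
    (hI : ∀ x ∈ I, s x ∈ I) (hIm : I ≤ IsLocalRing.maximalIdeal R) :
    Nat.card {a : R // a * s a = 1 ∧ a - 1 ∈ I} ^ 2 = Nat.card I := by
  obtain ⟨e, d, h1, h2⟩ := exists_ed hF s hsF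
  have hk := key s (UI I)
  have e1 : Nat.card (UI I) = Nat.card I := by
    have := card_UI hIm fun _ => True
    simpa using this
  have e2 : Nat.card {b : Rˣ // b ∈ UI I ∧ s b = b} = Nat.card {x // x ∈ I ∧ s x = x} := by
    rw [← card_UI hIm fun x => s x = x]
    exact Nat.card_congr (Equiv.subtypeEquivRight fun b => by simp)
  have e3 : Nat.card {a : R // ∃ b ∈ UI I, a * s b = b} =
      Nat.card {a : R // a * s a = 1 ∧ a - 1 ∈ I} := by
    refine Nat.card_congr (Equiv.subtypeEquivRight fun a => ⟨?_, fun ⟨h, hm⟩ => ?_⟩)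
    · rintro ⟨b, hb, h⟩
      refine ⟨norm_of s hs h, ?_⟩
      have hb1 := mem_UI.1 hb
      have hb2 := hI _ hb1
      have : a - 1 = ((b : R) - 1) - a * s ((b : R) - 1) := by
        rw [map_sub, map_one]; linear_combination h
      rw [this]
      exact I.sub_mem hb1 (I.mul_mem_left _ hb2)
    · have hx : (a - 1) * s (d * e) ∈ I := I.mul_mem_right _ hm
      refine ⟨(unit_add hIm hx).unit, mem_UI.2 (by simpa using hx), ?_⟩
      simp only [IsUnit.unit_spec, map_add, map_mul, map_sub, map_one, hs, h2, map_neg, neg_neg]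
      linear_combination (d * e) * h + (1 - a) * h1
  have hf := card_fix hF s hs hsF I hI
  have hp : 0 < Nat.card {x // x ∈ I ∧ s x = x} := by
    have : Nonempty {x // x ∈ I ∧ s x = x} := ⟨⟨0, I.zero_mem, map_zero s⟩⟩
    exact Nat.card_pos
  rw [e1, e2, e3, ← hf, sq] at hk
  rw [Nat.eq_of_mul_eq_mul_right hp hk, hf]

end CL.WU.OddH
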