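import Cfsg.Agent.CLAS.WU.Bas

/-! An orthogonally indecomposable faithful module over a local principal ring is cyclic. -/

set_option autoImplicit false

namespace CL.WU.OddM2

open Module CL.Witt CL.Uni Cfsg

variable {F : Type*} [Field F] [Fintype F] {q : ℕ} {hF : Fintype.card F = q ^ 2}
  {V : Type*} [AddCommGroup V] [Module F V] [FiniteDimensional F V] {f : Form (HT hF) V}

variable {R : Type*} [CommRing R] [Algebra F R] [FiniteDimensional F R]

theorem unit_mul_pow {R : Type*} [CommRing R] [IsLocalRing R] {π : R}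
    (hπ : IsLocalRing.maximalIdeal R = Ideal.span {π}) (r : R) (j : ℕ) :
    (∃ c, r = c * π ^ j) ∨ ∃ k < j, ∃ u : Rˣ, r = u * π ^ k := by
  induction j with
  | zero => exact Or.inl ⟨r, by simp⟩
  | succ j ih =>
    rcases ih with ⟨c, hc⟩ | ⟨k, hk, u, hu⟩
    · by_cases hu : IsUnit c
      · obtain ⟨u, rfl⟩ := hu
        exact Or.inr ⟨j, Nat.lt_succ_self j, u, hc⟩
      · have : c ∈ IsLocalRing.maximalIdeal R := hu
        rw [hπ, Ideal.mem_span_singleton'] at this
        obtain ⟨d, rfl⟩ := this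
        exact Or.inl ⟨d, by rw [hc]; ring⟩
    · exact Or.inr ⟨k, Nat.lt_succ_of_lt hk, u, hu⟩

theorem exists_socle (F : Type*) [Field F] {R : Type*} [CommRing R] [Algebra F R]
    [FiniteDimensional F R] [IsLocalRing R] {π : R}
    (hπ : IsLocalRing.maximalIdeal R = Ideal.span {π}) :
    ∃ p : R, p ≠ 0 ∧ ∀ r : R, r ≠ 0 → ∃ t, p = t * r := by
  classical
  have : IsArtinianRing R := IsArtinianRing.of_finite F R
  have hn : ∃ i : ℕ, π ^ i = 0 := by
    obtain ⟨n, hn⟩ := IsArtinianRing.isNilpotent_jacobson_bot (R := R)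
    rw [IsLocalRing.jacobson_eq_maximalIdeal ⊥ bot_ne_top, hπ, Ideal.span_singleton_pow,
      Ideal.zero_eq_bot, Ideal.span_singleton_eq_bot] at hn
    exact ⟨n, hn⟩
  have h0 : Nat.find hn ≠ 0 := fun h => by
    have := Nat.find_spec hn
    rw [h, pow_zero] at this
    exact one_ne_zero this
  refine ⟨π ^ (Nat.find hn - 1), Nat.find_min hn (by omega), fun r hr => ?_⟩
  rcases unit_mul_pow hπ r (Nat.find hn) with ⟨c, hc⟩ | ⟨k, hk, u, hu⟩
  · rw [Nat.find_spec hn, mul_zero] at hc
    exact absurd hc hr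
  · refine ⟨π ^ (Nat.find hn - 1 - k) * (u⁻¹ : Rˣ), ?_⟩
    rw [hu, mul_assoc, Units.inv_mul_cancel_left, ← pow_add]
    congr 1
    omega

omit [FiniteDimensional F V] in
theorem exists_B_ne (hf : f.Nondeg) {T : Module.End F V} (hT : T ≠ 0) :
    ∃ v, f.B v (T v) ≠ 0 := by
  by_contra h
  push Not at h
  apply hT
  have h1 : ∀ x y, f.B x (T y) + f.B y (T x) = 0 := fun x y => by
    have := h (x + y)
    rw [map_add T, f.B_add_left, f.B_add_right, f.B_add_right, h x, h y] at this
    linear_combination this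
  obtain ⟨c, hc⟩ : ∃ c : F, (HT hF).σ c ≠ c := by
    by_contra hc
    push Not at hc
    exact sig_ne_id hF (RingHom.ext hc)
  refine LinearMap.ext fun y => hf.right _ fun x => ?_
  have h2 := h1 (c • x) y
  rw [map_smul T, f.B_smul_left, f.B_smul_right] at h2
  have h3 : ((HT hF).σ c - c) * f.B x (T y) = 0 := by
    linear_combination h2 - c * h1 x y
  exact (mul_eq_zero.1 h3).resolve_left (sub_ne_zero.2 hc)

omit [FiniteDimensional F V] in
theorem exists_cyclic (hf : f.Nondeg) [IsLocalRing R] (π : R)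
    (hπ : IsLocalRing.maximalIdeal R = Ideal.span {π})
    (φ : R →ₐ[F] Module.End F V) (hφ : Function.Injective φ) (s : R →+* R)
    (hadj : ∀ r x y, f.B (φ r x) y = f.B x (φ (s r) y))
    (hind : ∀ U : Submodule F V, (∀ r, ∀ x ∈ U, φ r x ∈ U) → (f.restrict U).Nondeg →
      U = ⊥ ∨ U = ⊤) : ∃ v : V, Function.Bijective (fun r : R => φ r v) := by
  obtain ⟨p, hp, hdiv⟩ := exists_socle F hπ
  have hφ0 : ∀ r, φ r = 0 → r = 0 := fun r hr => hφ (by rw [hr, map_zero])
  obtain ⟨v, hv⟩ := exists_B_ne hf (T := φ p) fun h => hp (hφ0 p h)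
  let L : R →ₗ[F] V := (LinearMap.applyₗ v).comp φ.toLinearMap
  have hL : ∀ r, L r = φ r v := fun r => rfl
  have hs : ∀ r, s r = 0 → r = 0 := fun r hr => hφ0 r (LinearMap.ext fun x => hf _ fun y => by
    rw [hadj, hr, map_zero, LinearMap.zero_apply, map_zero])
  have hinj : Function.Injective L := by
    rw [injective_iff_map_eq_zero]
    intro r hr
    by_contra h0
    obtain ⟨t, ht⟩ := hdiv r h0
    apply hv
    rw [ht, map_mul, Module.End.mul_apply, ← hL r, hr, map_zero, map_zero]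
  refine ⟨v, hinj, ?_⟩
  have hU := hind (LinearMap.range L) ?_ ?_
  · rcases hU with hU | hU
    · exfalso
      apply hv
      have : L p ∈ LinearMap.range L := ⟨p, rfl⟩
      rw [hU, Submodule.mem_bot] at this
      rw [← hL, this, map_zero]
    · exact LinearMap.range_eq_top.1 hU
  · rintro r x ⟨a, rfl⟩
    exact ⟨r * a, by rw [hL, hL, map_mul, Module.End.mul_apply]⟩
  · rintro ⟨x, r, rfl⟩ hx
    by_contra hne
    have hr : r ≠ 0 := fun h => hne (Subtype.ext (by simp [h]))
    obtain ⟨t, ht⟩ := hdiv (s r) fun h => hr (hs r h)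
    apply hv
    have := hx ⟨L t, t, rfl⟩
    rw [Form.restrict_B] at this
    change f.B (φ r v) (φ t v) = 0 at this
    rw [hadj, ← Module.End.mul_apply, ← map_mul, mul_comm, ← ht] at this
    exact this

end CL.WU.OddM2
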