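import Mathlib

/-! The commutant of a Heisenberg basis of a matrix algebra consists of scalars. -/

set_option autoImplicit false

namespace CL.WU.OmA

open Module

variable {V : Type*} [AddCommGroup V] [Fintype V] {n : Type*} [Fintype n] [DecidableEq n]

theorem indep (T : V → Matrix n n ℂ) (c : V → V → ℂ) (hc : ∀ u v, c u v ≠ 0) (h0 : T 0 = 1)
    (hm : ∀ u v, T u * T v = c u v • T (u + v)) (ht : ∀ v, v ≠ 0 → (T v).trace = 0)
    (hN : Fintype.card V = Fintype.card n ^ 2) : LinearIndependent ℂ T := by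
  have n0 : (Fintype.card n : ℂ) ≠ 0 := Nat.cast_ne_zero.2 fun e => by
    rw [e] at hN
    exact Fintype.card_ne_zero hN
  refine Fintype.linearIndependent_iff.2 fun a ha w => ?_
  have := congrArg (fun M => (T (-w) * M).trace) ha
  simp only [Finset.mul_sum, Matrix.mul_smul, hm, Matrix.trace_sum, Matrix.trace_smul, smul_eq_mul,
    mul_zero, Matrix.trace_zero] at this
  rw [Finset.sum_eq_single w (fun v _ hv => by rw [ht _ fun e => hv (neg_add_eq_zero.1 e).symm, mul_zero, mul_zero])
    (fun h => absurd (Finset.mem_univ w) h), neg_add_cancel, h0, Matrix.trace_one] at this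
  exact (mul_eq_zero.1 this).resolve_right (mul_ne_zero (hc _ _) n0)

theorem span_top (T : V → Matrix n n ℂ) (c : V → V → ℂ) (hc : ∀ u v, c u v ≠ 0) (h0 : T 0 = 1)
    (hm : ∀ u v, T u * T v = c u v • T (u + v)) (ht : ∀ v, v ≠ 0 → (T v).trace = 0)
    (hN : Fintype.card V = Fintype.card n ^ 2) : Submodule.span ℂ (Set.range T) = ⊤ :=
  (indep T c hc h0 hm ht hN).span_eq_top_of_card_eq_finrank' (by
    rw [hN, Module.finrank_matrix, Module.finrank_self, mul_one, sq])

theorem scalar (T : V → Matrix n n ℂ) (c : V → V → ℂ) (hc : ∀ u v, c u v ≠ 0) (h0 : T 0 = 1)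
    (hm : ∀ u v, T u * T v = c u v • T (u + v)) (ht : ∀ v, v ≠ 0 → (T v).trace = 0)
    (hN : Fintype.card V = Fintype.card n ^ 2) {A : Matrix n n ℂ} (hA : ∀ v, A * T v = T v * A) :
    ∃ k : ℂ, A = k • (1 : Matrix n n ℂ) := by
  have h : ∀ M : Matrix n n ℂ, A * M = M * A := fun M => by
    have hM : M ∈ Submodule.span ℂ (Set.range T) := by
      rw [span_top T c hc h0 hm ht hN]; exact Submodule.mem_top
    induction hM using Submodule.span_induction with
    | mem x hx => obtain ⟨v, rfl⟩ := hx; exact hA v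
    | zero => rw [mul_zero, zero_mul]
    | add x y _ _ h1 h2 => rw [mul_add, add_mul, h1, h2]
    | smul a x _ h1 => rw [Matrix.mul_smul, Matrix.smul_mul, h1]
  obtain ⟨k, hk⟩ := Matrix.mem_range_scalar_of_commute_single (M := A) fun i j _ => (h _).symm
  exact ⟨k, by rw [← hk, Matrix.scalar_apply, Matrix.smul_one_eq_diagonal]⟩

end CL.WU.OmA
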