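import Cfsg.Agent.CLAS.WU.Gauss

/-! The operators `S g = ∑ T (g u) (T u)ᴴ` on the Heisenberg module: algebra and traces. -/

set_option autoImplicit false

namespace CL.WU.OmT

open Module CL.Witt CL.Uni Cfsg Matrix

variable {F : Type*} [Field F] [Fintype F] {q : ℕ} {hF : Fintype.card F = q ^ 2}
  {V : Type*} [AddCommGroup V] [Module F V] {f : Form (HT hF) V}
  {m : Type*} [Fintype m] [DecidableEq m]

/-- The conclusions of `exists_heis`. -/
structure Hz (f : Form (HT hF) V) (χ : AddChar F ℂ) (T : V → Matrix m m ℂ) : Prop where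
  zero : T 0 = 1
  mul : ∀ u v, T u * T v = χ (f.B u v) • T (u + v)
  tr : ∀ v, v ≠ 0 → (T v).trace = 0
  un : ∀ v, (T v).conjTranspose * T v = 1

variable {χ : AddChar F ℂ} {T : V → Matrix m m ℂ}

theorem Hz.star (h : Hz f χ T) (u : V) : (T u)ᴴ = χ (f.B u u) • T (-u) := by
  have h1 : T u * (χ (f.B u u) • T (-u)) = 1 := by
    rw [Matrix.mul_smul, h.mul, smul_smul, ← AddChar.map_add_eq_mul, map_neg, add_neg_cancel,
      add_neg_cancel, AddChar.map_zero_eq_one, one_smul, h.zero]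
  calc (T u)ᴴ = (T u)ᴴ * (T u * (χ (f.B u u) • T (-u))) := by rw [h1, mul_one]
    _ = _ := by rw [← mul_assoc, h.un, one_mul]

open Classical in
theorem Hz.trace_T (h : Hz f χ T) (v : V) :
    (T v).trace = if v = 0 then (Fintype.card m : ℂ) else 0 := by
  split_ifs with hv
  · rw [hv, h.zero, trace_one]
  · exact h.tr v hv

theorem Hz.trace_sum (h : Hz f χ T) {W : Type*} [AddCommGroup W] [Module F W] [Fintype W]
    (L : W →ₗ[F] V) [Fintype (LinearMap.ker L)] (c : W → ℂ) :
    (∑ w, c w • T (L w)).trace = Fintype.card m * ∑ w : LinearMap.ker L, c w := by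
  classical
  rw [Matrix.trace_sum]
  simp only [trace_smul, h.trace_T, smul_eq_mul, mul_ite, mul_zero]
  rw [← Finset.sum_filter, Finset.mul_sum,
    Finset.sum_subtype (p := fun w => w ∈ LinearMap.ker L) _ (by simp)]
  exact Finset.sum_congr rfl fun w _ => mul_comm _ _

include hF in
theorem card_eq (U : Type*) [AddCommGroup U] [Module F U] [Fintype U] :
    (Fintype.card U : ℂ) = (q : ℂ) ^ (2 * finrank F U) := by
  rw [Module.card_eq_pow_finrank (K := F), hF, ← pow_mul]
  push_cast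
  rfl

variable [Fintype V]

/-- The intertwiner. -/
noncomputable def S (T : V → Matrix m m ℂ) (g : f.O) : Matrix m m ℂ :=
  ∑ u, T (g.1 u) * (T u).conjTranspose

theorem Hz.S_eq (h : Hz f χ T) (g : f.O) :
    S T g = ∑ u, χ (-f.B (g.1 u - u) u) • T (g.1 u - u) := by
  refine Finset.sum_congr rfl fun u _ => ?_
  rw [h.star, Matrix.mul_smul, h.mul, smul_smul, ← AddChar.map_add_eq_mul, ← sub_eq_add_neg]
  congr 2
  simp only [map_neg, map_sub, LinearMap.sub_apply]
  ring

theorem Hz.trace_S (h : Hz f χ T) (g : f.O) :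
    (S T g).trace = Fintype.card m * (q : ℂ) ^ (2 * fd g.1) := by
  classical
  have h1 := h.trace_sum ((g.1 : V →ₗ[F] V) - LinearMap.id) (fun u => χ (-f.B (g.1 u - u) u))
  rw [h.S_eq]
  refine Eq.trans h1 ?_
  congr 1
  rw [Finset.sum_congr rfl (g := fun _ => (1 : ℂ))]
  · rw [Finset.sum_const, Finset.card_univ, nsmul_eq_mul, mul_one, card_eq (hF := hF)]
    rfl
  · intro w _
    have hw : g.1 w - w = 0 := w.2
    simp [hw]

theorem Hz.S_T (h : Hz f χ T) (g : f.O) (v : V) : S T g * T v = T (g.1 v) * S T g := by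
  unfold S
  rw [Finset.sum_mul, Finset.mul_sum, ← Equiv.sum_comp (Equiv.addLeft v)]
  refine Finset.sum_congr rfl fun u _ => ?_
  simp only [Equiv.coe_addLeft]
  rw [h.star, h.star, ← mul_assoc, h.mul (g.1 v), f.O_B, mul_assoc, Matrix.smul_mul, h.mul,
    ← map_add, Matrix.smul_mul, Matrix.mul_smul, Matrix.mul_smul, Matrix.mul_smul, smul_smul,
    smul_smul, ← AddChar.map_add_eq_mul, ← AddChar.map_add_eq_mul]
  congr 2
  · simp only [map_neg, map_add, LinearMap.add_apply, LinearMap.neg_apply]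
    ring
  · congr 1
    abel

omit [DecidableEq m] in
theorem S_star (g : f.O) : (S T g)ᴴ = S T g⁻¹ := by
  unfold S
  rw [conjTranspose_sum, ← Equiv.sum_comp g.1.toEquiv (fun u => T ((g⁻¹).1 u) * (T u)ᴴ)]
  refine Finset.sum_congr rfl fun u _ => ?_
  rw [conjTranspose_mul, conjTranspose_conjTranspose]
  congr 2
  exact (g.1.symm_apply_apply u).symm

theorem Hz.scalar (h : Hz f χ T) (hm : Fintype.card m = q ^ finrank F V) {M : Matrix m m ℂ}
    (hM : ∀ v, M * T v = T v * M) : ∃ c : ℂ, M = c • 1 := by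
  classical
  have hV : Fintype.card V = Fintype.card m * Fintype.card m := by
    rw [Module.card_eq_pow_finrank (K := F), hF, hm, ← pow_mul, ← pow_add, two_mul]
  have hm0 : (Fintype.card m : ℂ) ≠ 0 := by
    intro h0
    have h1 : Fintype.card m = 0 := by exact_mod_cast h0
    rw [h1] at hV
    exact Fintype.card_ne_zero hV
  have hli : LinearIndependent ℂ T := by
    rw [Fintype.linearIndependent_iff]
    intro c hc w
    have h1 := congrArg (fun A => (T (-w) * A).trace) hc
    simp only [Finset.mul_sum, Matrix.mul_smul, h.mul, Matrix.trace_sum, trace_smul, h.trace_T,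
      smul_eq_mul, mul_zero, trace_zero, neg_add_eq_zero, mul_ite, Finset.sum_ite_eq,
      Finset.mem_univ, if_true] at h1
    have h2 : χ (f.B (-w) w) ≠ 0 := (AddChar.val_isUnit χ _).ne_zero
    exact (mul_eq_zero.1 h1).resolve_right (mul_ne_zero h2 hm0)
  have hsp : Submodule.span ℂ (Set.range T) = ⊤ :=
    hli.span_eq_top_of_card_eq_finrank' (by rw [Module.finrank_matrix, hV]; simp)
  have hall : ∀ A : Matrix m m ℂ, Commute A M := by
    intro A
    have hA : A ∈ Submodule.span ℂ (Set.range T) := hsp ▸ Submodule.mem_top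
    induction hA using Submodule.span_induction with
    | mem x hx => obtain ⟨v, rfl⟩ := hx; exact (hM v).symm
    | zero => exact Commute.zero_left _
    | add x y _ _ hx hy => exact hx.add_left hy
    | smul a x _ hx => exact hx.smul_left a
  obtain ⟨c, hc⟩ := mem_range_scalar_iff_commute_single'.2 fun i j => hall (single i j 1)
  exact ⟨c, by rw [← hc, scalar_apply, smul_one_eq_diagonal]⟩

theorem Hz.S_inv (h : Hz f χ T) (hm : Fintype.card m = q ^ finrank F V) (g : f.O) :
    S T g * S T g⁻¹ = (q : ℂ) ^ (2 * finrank F V + 2 * fd g.1) • (1 : Matrix m m ℂ) := by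
  have hgg : ∀ v, g.1 ((g⁻¹).1 v) = v := fun v => g.1.apply_symm_apply v
  obtain ⟨c, hc⟩ := h.scalar hm (M := S T g * S T g⁻¹) fun v => by
    rw [mul_assoc, h.S_T, ← mul_assoc, h.S_T, hgg, mul_assoc]
  have hm0 : (Fintype.card m : ℂ) ≠ 0 := by
    intro h0
    have h1 : Fintype.card m = 0 := by exact_mod_cast h0
    have hV : Fintype.card V = Fintype.card m * Fintype.card m := by
      rw [Module.card_eq_pow_finrank (K := F), hF, hm, ← pow_mul, ← pow_add, two_mul]
    rw [h1] at hV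
    exact Fintype.card_ne_zero hV
  have h1 : (S T g * S T g⁻¹).trace = Fintype.card V * (S T g).trace := by
    conv_lhs => rw [show S T g⁻¹ = ∑ u, T ((g⁻¹).1 u) * (T u)ᴴ from rfl]
    rw [Finset.mul_sum, Matrix.trace_sum, Finset.sum_congr rfl (g := fun _ => (S T g).trace)]
    · rw [Finset.sum_const, Finset.card_univ, nsmul_eq_mul]
    · intro u _
      rw [← mul_assoc, h.S_T, hgg, trace_mul_comm, ← mul_assoc, h.un, one_mul]
  rw [hc, trace_smul, trace_one, h.trace_S, card_eq (hF := hF) V, smul_eq_mul] at h1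
  rw [hc]
  congr 1
  apply mul_right_cancel₀ hm0
  rw [h1, pow_add]
  ring

theorem Hz.trace_SS (h : Hz f χ T) (hχ : ∃ x : F, χ (x - x ^ q) ≠ 1) (g k : f.O) :
    ∃ r e : ℕ, (S T g * S T k).trace =
      Fintype.card m * ((-(q : ℂ)) ^ r * (q : ℂ) ^ (2 * e)) := by
  classical
  let L : V × V →ₗ[F] V :=
    ((g.1 : V →ₗ[F] V) - LinearMap.id).coprod ((k.1 : V →ₗ[F] V) - LinearMap.id)
  let X : LinearMap.ker L →ₗ[F] V :=
    ((g.1 : V →ₗ[F] V) - LinearMap.id) ∘ₗ LinearMap.fst F V V ∘ₗ (LinearMap.ker L).subtype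
  let Z : LinearMap.ker L →ₗ[F] V :=
    (LinearMap.snd F V V - LinearMap.fst F V V) ∘ₗ (LinearMap.ker L).subtype - X
  let Φ : LinearMap.ker L →ₛₗ[sig hF] LinearMap.ker L →ₗ[F] F := (f.B.comp X).compl₂ Z
  have hΦ : ∀ y : LinearMap.ker L, Φ y y =
      f.B (g.1 y.1.1 - y.1.1) (y.1.2 - y.1.1 - (g.1 y.1.1 - y.1.1)) := fun y => rfl
  have hk : ∀ y : LinearMap.ker L, k.1 y.1.2 - y.1.2 = -(g.1 y.1.1 - y.1.1) := fun y =>
    eq_neg_of_add_eq_zero_right (show (g.1 y.1.1 - y.1.1) + (k.1 y.1.2 - y.1.2) = 0 from y.2)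
  have hσ : ∀ a b : V, (f.B a b) ^ q = f.B b a := fun a b => by
    rw [f.symm a b, HT_ε, one_mul, HT_σ]
  obtain ⟨r, -, hr⟩ := gauss Φ (fun y => by
    rw [hΦ, hσ]
    have h1 := f.O_B g y.1.1 y.1.1
    have h2 := f.O_B k y.1.2 y.1.2
    have h3 : k.1 y.1.2 = y.1.2 - (g.1 y.1.1 - y.1.1) := by
      rw [sub_eq_iff_eq_add'.1 (hk y)]; abel
    rw [h3] at h2
    simp only [map_sub, LinearMap.sub_apply] at h1 h2 ⊢
    linear_combination -h1 - h2) χ hχ
  refine ⟨r, finrank F (LinearMap.ker L) - r, ?_⟩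
  · rw [← hr]
    have h1 := h.trace_sum L (fun p => χ (-f.B (g.1 p.1 - p.1) p.1 + -f.B (k.1 p.2 - p.2) p.2 +
      f.B (g.1 p.1 - p.1) (k.1 p.2 - p.2)))
    rw [h.S_eq, h.S_eq, Finset.sum_mul_sum, ← Fintype.sum_prod_type']
    refine Eq.trans ?_ (h1.trans ?_)
    · congr 1
      refine Finset.sum_congr rfl fun p _ => ?_
      rw [Matrix.smul_mul, Matrix.mul_smul, h.mul, smul_smul, smul_smul, ← AddChar.map_add_eq_mul,
        ← AddChar.map_add_eq_mul]
      rfl
    · congr 1
      refine Finset.sum_congr rfl fun y _ => ?_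
      rw [hΦ, hk]
      congr 1
      simp only [map_neg, map_sub, LinearMap.sub_apply, LinearMap.neg_apply]
      ring

end CL.WU.OmT
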