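import Cfsg.Agent.CLAS.WU.Def
import Cfsg.Agent.CHAR.Constit
import Cfsg.Agent.CHAR.Orth
import Cfsg.Agent.CHAR.Rep

/-! General lemmas on `gsum` (any finite group). -/

set_option autoImplicit false

namespace CL.WU

open Module CL.Witt CL.Uni Cfsg

namespace Part2

section
variable {G : Type*} [Group G] [Fintype G] {M : Type*} [AddCommGroup M] [Module ℂ M]
  [FiniteDimensional ℂ M]

theorem gsum_eq (χ : G → ℂ) (C : Subgroup G) [Fintype C] : gsum χ C = ∑ x : C, χ x := by
  classical
  unfold gsum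
  rw [← Finset.sum_filter]
  exact Finset.sum_subtype _ (by simp) χ

theorem gsum_rank (ρ : Representation ℂ G M) (C : Subgroup G) :
    gsum ρ.character C = Nat.card C *
      (finrank ℂ (Representation.invariants (ρ.comp C.subtype : Representation ℂ C M)) : ℂ) := by
  classical
  have := Fintype.ofFinite C
  have h0 := CL.Char.card_ne_zero C
  have := invertibleOfNonzero h0
  rw [← Representation.card_inv_mul_sum_char_eq_finrank, ← mul_assoc, mul_inv_cancel₀ h0, one_mul, gsum_eq]
  rfl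

theorem gsum_ne_zero_iff (ρ : Representation ℂ G M) (C : Subgroup G) :
    gsum ρ.character C ≠ 0 ↔ ∃ x : M, x ≠ 0 ∧ ∀ g ∈ C, ρ g x = x := by
  rw [gsum_rank, mul_ne_zero_iff, and_iff_right (CL.Char.card_ne_zero C), Nat.cast_ne_zero, Ne,
    Submodule.finrank_eq_zero, ← Ne, Submodule.ne_bot_iff]
  constructor
  · rintro ⟨x, hx, x0⟩
    exact ⟨x, x0, fun g hg => hx ⟨g, hg⟩⟩
  · rintro ⟨x, x0, hx⟩
    exact ⟨x, fun g => hx g.1 g.2, x0⟩

theorem gsum_eq_zero_of_le {χ : G → ℂ} (hχ : IsCharacter G χ) {A C : Subgroup G} (h : A ≤ C)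
    (hA : gsum χ A = 0) : gsum χ C = 0 := by
  obtain ⟨n, ρ, rfl⟩ := hχ
  by_contra hC
  obtain ⟨x, x0, hx⟩ := (gsum_ne_zero_iff ρ C).1 hC
  exact (gsum_ne_zero_iff ρ A).2 ⟨x, x0, fun g hg => hx g (h hg)⟩ hA

theorem gsum_nat {χ : G → ℂ} (hχ : IsCharacter G χ) (C : Subgroup G) : ∃ n : ℕ, gsum χ C = n := by
  obtain ⟨n, ρ, rfl⟩ := hχ
  exact ⟨_, by rw [gsum_rank, ← Nat.cast_mul]⟩

theorem conj_inner_ne_zero_iff {χ : G → ℂ} (hχ : IsCharacter G χ) :
    classInner χ (fun g : G => (Nat.card ↥(Subgroup.centralizer ({g} : Set G)) : ℂ)) ≠ 0 ↔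
      ∃ g : G, gsum χ (Subgroup.centralizer {g}) ≠ 0 := by
  classical
  have e : ∑ x : G, χ x * (starRingEnd ℂ) (Nat.card ↥(Subgroup.centralizer ({x} : Set G)) : ℂ) =
      ∑ g : G, gsum χ (Subgroup.centralizer {g}) := by
    unfold gsum
    rw [Finset.sum_comm]
    refine Finset.sum_congr rfl fun x _ => ?_
    rw [map_natCast, ← Finset.sum_filter, Finset.sum_const, nsmul_eq_mul, mul_comm, Nat.card_eq_fintype_card,
      Fintype.card_subtype]
    congr 3
    ext g
    simp only [Subgroup.mem_centralizer_singleton_iff, Finset.mem_filter, Finset.mem_univ, true_and]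
    exact eq_comm
  choose n hn using fun g : G => gsum_nat hχ (Subgroup.centralizer {g})
  rw [CL.Char.classInner_def, e, mul_ne_zero_iff, and_iff_right (inv_ne_zero (CL.Char.card_ne_zero G))]
  simp only [hn]
  rw [← Nat.cast_sum, Nat.cast_ne_zero, Ne, Finset.sum_eq_zero_iff]
  simp

theorem gsum_comp {H : Type*} [Group H] [Fintype H] (π : H →* G) (χ : G → ℂ) (C : Subgroup G)
    (hπ : Function.Surjective π) :
    gsum (fun x => χ (π x)) (C.comap π) = Nat.card π.ker * gsum χ C := by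
  classical
  have hfib : ∀ h : G, ((Finset.univ.filter fun g : H => π g = h).card : ℂ) = Nat.card π.ker := by
    intro h
    obtain ⟨x, rfl⟩ := hπ h
    have : Nat.card {g : H // π g = π x} = Nat.card π.ker := by
      refine Nat.card_congr ⟨fun g => ⟨x⁻¹ * g.1, ?_⟩, fun k => ⟨x * k.1, ?_⟩, ?_, ?_⟩
      · rw [MonoidHom.mem_ker, map_mul, map_inv, g.2, inv_mul_cancel]
      · rw [map_mul, (MonoidHom.mem_ker).1 k.2, mul_one]
      · intro g; simp
      · intro k; simp
    rw [← this, Nat.card_eq_fintype_card, Fintype.card_subtype]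
  unfold gsum
  rw [← Finset.sum_fiberwise_of_maps_to (s := Finset.univ) (t := Finset.univ) (g := π) fun _ _ => Finset.mem_univ _,
    Finset.mul_sum]
  refine Finset.sum_congr rfl fun g _ => ?_
  rw [← hfib g, ← nsmul_eq_mul, ← Finset.sum_const]
  refine Finset.sum_congr rfl fun x hx => ?_
  rw [← (Finset.mem_filter.1 hx).2]
  simp only [Subgroup.mem_comap]

theorem gsum_map {H : Type*} [Group H] [Fintype H] (j : H →* G) (hj : Function.Injective j)
    (χ : G → ℂ) (A : Subgroup H) : gsum χ (A.map j) = gsum (fun x => χ (j x)) A := by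
  have := Fintype.ofFinite A
  have := Fintype.ofFinite (A.map j)
  rw [gsum_eq, gsum_eq]
  exact (Fintype.sum_equiv (A.equivMapOfInjective j hj).toEquiv _ _ fun _ => rfl).symm

omit [Fintype G] [FiniteDimensional ℂ M] in
theorem wt_aux {T I : Type*} [Fintype T] (op : I → Module.End ℂ M) (v : T → M) (ψ : T → I → ℂ) (φ : I → ℂ)
    (hv : ∀ t i, op i (v t) = ψ t i • v t) (h0 : ∑ t, v t = 0) (u : Finset T) (hu : ∀ t ∈ u, ψ t ≠ φ) :
    ∃ c : T → ℂ, (∀ t ∈ u, c t = 0) ∧ (∀ t, ψ t = φ → c t = 1) ∧ ∑ t, c t • v t = 0 := by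
  classical
  induction u using Finset.induction_on with
  | empty => exact ⟨fun _ => 1, by simp, fun _ _ => rfl, by simpa using h0⟩
  | insert a u _ ih =>
    obtain ⟨c, c0, c1, hc⟩ := ih fun t ht => hu t (Finset.mem_insert_of_mem ht)
    obtain ⟨i, hi⟩ := Function.ne_iff.1 (hu a (Finset.mem_insert_self _ _))
    have n : φ i - ψ a i ≠ 0 := sub_ne_zero.2 hi.symm
    refine ⟨fun t => (φ i - ψ a i)⁻¹ * ((ψ t i - ψ a i) * c t), fun t ht => ?_, fun t ht => ?_, ?_⟩
    · rcases Finset.mem_insert.1 ht with rfl | ht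
      · simp
      · simp [c0 t ht]
    · simp only [c1 t ht, ht, mul_one, inv_mul_cancel₀ n]
    · have e := congrArg (fun x => op i x - ψ a i • x) hc
      simp only [map_sum, map_smul, hv, map_zero, smul_zero, sub_zero, Finset.smul_sum, ← Finset.sum_sub_distrib,
        smul_smul, ← sub_smul] at e
      simp only [mul_smul, ← Finset.smul_sum]
      rw [smul_eq_zero]
      right
      rw [← e]
      refine Finset.sum_congr rfl fun t _ => ?_
      rw [smul_smul]
      congr 1
      ring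

omit [Fintype G] [FiniteDimensional ℂ M] in
theorem sum_ne_zero_of_wt {T I : Type*} [Group T] [Fintype T] (ρ : T →* Module.End ℂ M)
    (op : I → Module.End ℂ M) (act : T → I → I) (hact : ∀ t i, op i * ρ t = ρ t * op (act t i))
    {φ : I → ℂ} {y : M} (hy : y ≠ 0) (hφ : ∀ i, op i y = φ i • y)
    (hst : ∀ t, (∀ i, φ (act t i) = φ i) → ρ t y = y) : ∑ t, ρ t y ≠ 0 := by
  classical
  intro h0
  have hv : ∀ t i, op i (ρ t y) = φ (act t i) • ρ t y := fun t i => by
    rw [← Module.End.mul_apply, hact, Module.End.mul_apply, hφ, map_smul]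
  obtain ⟨c, c0, c1, hc⟩ := wt_aux op (fun t => ρ t y) (fun t i => φ (act t i)) φ hv h0
    (Finset.univ.filter fun t => (fun i => φ (act t i)) ≠ φ) fun t ht => (Finset.mem_filter.1 ht).2
  have e : ∑ t, c t • ρ t y =
      ((Finset.univ.filter fun t : T => (fun i => φ (act t i)) = φ).card : ℂ) • y := by
    rw [Nat.cast_smul_eq_nsmul, ← Finset.sum_const, Finset.sum_filter]
    refine Finset.sum_congr rfl fun t _ => ?_
    split_ifs with h
    · rw [c1 t h, one_smul, hst t (congrFun h)]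
    · rw [c0 t (Finset.mem_filter.2 ⟨Finset.mem_univ _, h⟩), zero_smul]
  rw [e, smul_eq_zero, or_iff_left hy, Nat.cast_eq_zero, Finset.card_eq_zero, Finset.filter_eq_empty_iff] at hc
  refine hc (Finset.mem_univ 1) (funext fun i => smul_left_injective ℂ hy ?_)
  have := hv 1 i
  rw [map_one, Module.End.one_apply] at this
  change φ (act 1 i) • y = φ i • y
  rw [← this, hφ]

end

end Part2

end CL.WU
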