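import Cfsg.Agent.CLAS.WU.Def
import Cfsg.Agent.CHAR.Constit
import Cfsg.Agent.CHAR.Orth
import Cfsg.Agent.CHAR.Rep

/-! Weight vectors and the conjugation character. -/

set_option autoImplicit false

namespace CL.WU.Part3

open Module CL.Witt CL.Uni Cfsg CL.Char

variable {G : Type*} [Group G] [Fintype G] {M : Type*} [AddCommGroup M] [Module ℂ M]

theorem gsum_nat {χ : G → ℂ} (hχ : IsCharacter G χ) (C : Subgroup G) :
    ∃ n : ℕ, gsum χ C = n := by
  classical
  obtain ⟨n, hn⟩ := (hχ.res C).exists_nat_inner isCharacter_one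
  have hK : (Nat.card C : ℂ) ≠ 0 := Nat.cast_ne_zero.2 Nat.card_pos.ne'
  rw [classInner, inv_mul_eq_iff_eq_mul₀ hK] at hn
  refine ⟨Nat.card C * n, ?_⟩
  rw [Nat.cast_mul, ← hn, gsum, ← Finset.sum_filter,
    Finset.sum_subtype (p := fun g => g ∈ C) (F := inferInstance) _ (by simp)]
  simp

theorem conj_inner_ne_zero_iff {χ : G → ℂ} (hχ : IsCharacter G χ) :
    classInner χ (fun g : G => (Nat.card ↥(Subgroup.centralizer ({g} : Set G)) : ℂ)) ≠ 0 ↔
      ∃ g : G, gsum χ (Subgroup.centralizer {g}) ≠ 0 := by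
  classical
  have hG : (Nat.card G : ℂ) ≠ 0 := Nat.cast_ne_zero.2 Nat.card_pos.ne'
  have e : ∑ x : G, χ x * (starRingEnd ℂ) (Nat.card ↥(Subgroup.centralizer ({x} : Set G)) : ℂ) =
      ∑ g : G, gsum χ (Subgroup.centralizer {g}) := by
    simp only [gsum]
    rw [Finset.sum_comm]
    refine Finset.sum_congr rfl fun x _ => ?_
    rw [Complex.conj_natCast, ← Finset.sum_filter, Finset.sum_const, nsmul_eq_mul, mul_comm,
      Nat.card_eq_fintype_card, Fintype.card_subtype]
    congr 3
    ext g
    simp only [Subgroup.mem_centralizer_singleton_iff, Finset.mem_filter, Finset.mem_univ, true_and]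
    exact eq_comm
  choose n hn using fun g : G => gsum_nat hχ (Subgroup.centralizer {g})
  rw [classInner, e, mul_ne_zero_iff_left (inv_ne_zero hG)]
  simp only [hn]
  rw [← Nat.cast_sum, Nat.cast_ne_zero, Ne, Finset.sum_eq_zero_iff]
  simp

theorem sum_ne_zero_of_wt {T I : Type*} [Group T] [Fintype T] (ρ : T →* Module.End ℂ M)
    (op : I → Module.End ℂ M) (act : T → I → I) (hact : ∀ t i, op i * ρ t = ρ t * op (act t i))
    {φ : I → ℂ} {y : M} (hy : y ≠ 0) (hφ : ∀ i, op i y = φ i • y)
    (hst : ∀ t, (∀ i, φ (act t i) = φ i) → ρ t y = y) : ∑ t, ρ t y ≠ 0 := by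
  classical
  have hw : ∀ t i, op i (ρ t y) = φ (act t i) • ρ t y := fun t i => by
    have := LinearMap.congr_fun (hact t i) y
    simp only [Module.End.mul_apply] at this
    rw [this, hφ, map_smul]
  -- kill the other weights one at a time
  have key : ∀ (S : Finset T), (∀ t ∈ S, ¬ ∀ i, φ (act t i) = φ i) → ∀ (c : T → ℂ) (a : ℂ),
      a • y + ∑ t ∈ S, c t • ρ t y = 0 → a = 0 := by
    intro S
    induction S using Finset.induction_on with
    | empty =>
      intro _ c a h
      simpa [hy] using h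
    | insert s S hs ih =>
      intro hS c a h
      obtain ⟨i, hi⟩ := not_forall.1 (hS s (Finset.mem_insert_self _ _))
      have h1 := congrArg (op i - φ (act s i) • (1 : Module.End ℂ M)) h
      rw [Finset.sum_insert hs] at h1
      simp only [map_add, map_sum, map_smul, map_zero, LinearMap.sub_apply, LinearMap.smul_apply,
        Module.End.one_apply, hw, hφ, sub_self, smul_zero, zero_add, ← sub_smul, smul_smul] at h1
      have := ih (fun t ht => hS t (Finset.mem_insert_of_mem ht))
        (fun t => c t * (φ (act t i) - φ (act s i))) _ h1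
      exact (mul_eq_zero.1 this).resolve_right (sub_ne_zero.2 (Ne.symm hi))
  intro h0
  rw [← Finset.sum_filter_add_sum_filter_not Finset.univ fun t => ∀ i, φ (act t i) = φ i,
    Finset.sum_congr rfl fun t ht => hst t (Finset.mem_filter.1 ht).2, Finset.sum_const,
    ← Nat.cast_smul_eq_nsmul ℂ] at h0
  have h2 := key _ (fun t ht => (Finset.mem_filter.1 ht).2) (fun _ => 1) _ (by simpa using h0)
  rw [Nat.cast_eq_zero, Finset.card_eq_zero, Finset.filter_eq_empty_iff] at h2
  refine h2 (Finset.mem_univ 1) fun i => ?_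
  have h3 := hw 1 i
  rw [map_one, Module.End.one_apply, hφ] at h3
  exact (smul_left_injective ℂ hy h3).symm

end CL.WU.Part3
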