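import Cfsg.Agent.CLAS.WU.Def2
import Cfsg.Agent.CLAS.WU.Bas

/-! Singer cycles: invariant forms and the degree of a power. -/

set_option autoImplicit false

namespace CL.WU.RegE

open Module CL.Witt CL.Uni Cfsg

section
variable {F : Type*} [Field F] {W : Type*} [AddCommGroup W] [Module F W] {s : W ≃ₗ[F] W}

theorem inj (h : Tr s) {t : W →ₗ[F] W} (ht : ∀ x, t (s x) = s (t x)) (h0 : t ≠ 0) :
    Function.Injective t := by
  have hp : ∀ (j : ℕ) x, t x = 0 → t ((s ^ j) x) = 0 := by
    intro j x hx
    induction j with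
    | zero => simpa using hx
    | succ j ih => rw [pow_succ', LinearEquiv.mul_apply, ht, ih, map_zero]
  rw [injective_iff_map_eq_zero]
  intro x hx
  by_contra hx0
  refine h0 (LinearMap.ext fun y => ?_)
  by_cases hy : y = 0
  · simp [hy]
  · obtain ⟨j, rfl⟩ := h x hx0 y hy
    exact hp j x hx

theorem exists_deg [FiniteDimensional F W] (h : Tr s) [Nontrivial W] (i : ℕ) :
    ∃ d : ℕ, (∀ U : Submodule F W, (∀ x ∈ U, (s ^ i) x ∈ U) → d ∣ finrank F U) ∧
      (d = 1 → ∃ c : F, ∀ x, (s ^ i) x = c • x) ∧
      (d = 2 → ∃ α β : F, (∀ x, (s ^ i) ((s ^ i) x) = α • (s ^ i) x + β • x) ∧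
        ∀ c : F, c * c ≠ α * c + β) := by
  set t : End F W := (s ^ i : W ≃ₗ[F] W).toLinearMap with ht
  have tap : ∀ x, (s ^ i) x = t x := fun x => rfl
  let A : Subalgebra F (End F W) := Algebra.adjoin F {t}
  have htA : t ∈ A := Algebra.subset_adjoin rfl
  have hc : ∀ a ∈ A, ∀ x, a (s x) = s (a x) := by
    intro a ha
    induction ha using Algebra.adjoin_induction with
    | mem a ha =>
      obtain rfl : a = t := ha
      intro x
      rw [← tap, ← tap, ← LinearEquiv.mul_apply, ← LinearEquiv.mul_apply, ← pow_succ, ← pow_succ']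
    | algebraMap c => intro x; simp [Module.algebraMap_end_apply]
    | add a b _ _ ha hb => intro x; simp [ha, hb]
    | mul a b _ _ ha hb => intro x; simp [ha, hb]
  have nz : ∀ a b : A, a * b = 0 → a = 0 ∨ b = 0 := by
    intro a b hab
    by_cases ha : a = 0
    · exact Or.inl ha
    · refine Or.inr (Subtype.ext (LinearMap.ext fun x => ?_))
      apply inj h (hc a.1 a.2) (fun e => ha (Subtype.ext e))
      have := congrArg (fun z : A => z.1 x) hab
      simpa using this
  haveI : NoZeroDivisors A := ⟨fun {a b} => nz a b⟩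
  haveI : IsDomain A := NoZeroDivisors.to_isDomain A
  have ns : finrank F A = 2 → ∀ c : F, t ≠ algebraMap F _ c := by
    intro h2 c e
    have : A = ⊥ := by
      rw [eq_bot_iff]
      exact Algebra.adjoin_le (by rintro _ rfl; exact ⟨c, e.symm⟩)
    rw [this, Subalgebra.finrank_bot] at h2
    omega
  refine ⟨finrank F A, fun U hU => ?_, fun h1 => ?_, fun h2 => ?_⟩
  · have hAU : ∀ a ∈ A, ∀ x ∈ U, a x ∈ U := by
      intro a ha
      induction ha using Algebra.adjoin_induction with
      | mem a ha => obtain rfl : a = t := ha; exact hU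
      | algebraMap c => intro x hx; exact U.smul_mem c hx
      | add a b _ _ ha hb => intro x hx; exact U.add_mem (ha x hx) (hb x hx)
      | mul a b _ _ ha hb => intro x hx; exact ha _ (hb x hx)
    letI : DivisionRing A := divisionRingOfFiniteDimensional F A
    let U' : Submodule A W :=
      { carrier := U
        add_mem' := U.add_mem
        zero_mem' := U.zero_mem
        smul_mem' := fun a x hx => hAU a.1 a.2 x hx }
    have e : finrank F U = finrank F U' := rfl
    rw [e, ← finrank_mul_finrank F A U']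
    exact Dvd.intro _ rfl
  · have : A = ⊥ := Subalgebra.finrank_eq_one_iff.1 h1
    rw [this] at htA
    obtain ⟨c, e⟩ := htA
    exact ⟨c, fun x => by rw [tap, ← e]; rfl⟩
  · have li : LinearIndependent F ![(1 : A), ⟨t, htA⟩] := by
      rw [LinearIndependent.pair_iff' one_ne_zero]
      intro c e
      refine ns h2 c ?_
      have := congrArg Subtype.val e
      simpa [Algebra.algebraMap_eq_smul_one] using this.symm
    have sp := li.span_eq_top_of_card_eq_finrank (by simp [h2])
    have : (⟨t, htA⟩ * ⟨t, htA⟩ : A) ∈ Submodule.span F (Set.range ![(1 : A), ⟨t, htA⟩]) := by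
      rw [sp]; trivial
    rw [Matrix.range_cons_cons_empty, Submodule.mem_span_pair] at this
    obtain ⟨β, α, e⟩ := this
    refine ⟨α, β, fun x => ?_, fun c hc' => ?_⟩
    · have := congrArg (fun z : A => z.1 x) e
      simp only [tap]
      simpa [add_comm] using this.symm
    · have e2 : ((⟨t, htA⟩ : A) - c • 1) * (⟨t, htA⟩ - (α - c) • 1) = 0 := by
        have hb : β = c * c - α * c := by rw [hc']; ring
        rw [sub_mul, mul_sub, mul_sub, ← e, hb]
        simp only [mul_smul_comm, smul_mul_assoc, mul_one, one_mul]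
        module
      rcases nz _ _ e2 with e3 | e3
      · refine ns h2 c ?_
        have := congrArg Subtype.val (sub_eq_zero.1 e3)
        simpa [Algebra.algebraMap_eq_smul_one] using this
      · refine ns h2 (α - c) ?_
        have := congrArg Subtype.val (sub_eq_zero.1 e3)
        simpa [Algebra.algebraMap_eq_smul_one] using this

end

variable {F : Type*} [Field F] [Fintype F] {q : ℕ} {hF : Fintype.card F = q ^ 2}
  {W : Type*} [AddCommGroup W] [Module F W] [FiniteDimensional F W] {s : W ≃ₗ[F] W}

theorem form_eq_zero (h : Tr s) (h12 : ¬ (finrank F W = 1 ∧ q = 2))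
    (b : W →ₛₗ[(HT hF).σ] W →ₗ[F] F) (hb : ∀ x y, b (s x) (s y) = b x y) : b = 0 := by
  have hp : ∀ (j : ℕ) x, b ((s ^ j) x) ((s ^ j) x) = b x x := by
    intro j x
    induction j with
    | zero => simp
    | succ j ih => rw [pow_succ', LinearEquiv.mul_apply, hb, ih]
  obtain ⟨ω, hω⟩ : ∃ ω : F, ω ^ q ≠ ω := by
    by_contra! hh
    exact sig_ne_id hF (RingHom.ext fun x => hh x)
  have hq := two_le_q (hF := hF)
  have ex : ∀ (a : F) x y, b (x + a • y) (x + a • y) =
      b x x + a * b x y + a ^ q * b y x + a ^ q * a * b y y := by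
    intro a x y
    simp only [map_add, map_smulₛₗ, LinearMap.add_apply, LinearMap.smul_apply, smul_eq_mul, HT_σ,
      RingHom.id_apply]
    ring
  have h0 : ∀ x, b x x = 0 := by
    intro x
    by_contra hc
    have hx : x ≠ 0 := by rintro rfl; simp at hc
    have hcon : ∀ y, y ≠ 0 → b y y = b x x := fun y hy => by
      obtain ⟨j, rfl⟩ := h x hx y hy
      exact hp j x
    have hN : ∀ a : F, a ≠ 0 → a ^ q * a = 1 := fun a ha => by
      have e := ex a 0 x
      rw [zero_add, hcon _ (smul_ne_zero ha hx)] at e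
      simp only [map_zero, LinearMap.zero_apply, mul_zero, zero_add, add_zero] at e
      exact mul_right_cancel₀ hc (by rw [one_mul]; exact e.symm)
    have hq2 : q = 2 := by
      have h1 : Nat.card Fˣ ≤ Nat.card (Mu F q) := by
        refine Nat.card_le_card_of_injective (fun a => ⟨a, ?_⟩) fun a c e => congrArg Subtype.val e
        rw [mem_rootsOfUnity]
        ext
        rw [Units.val_pow_eq_pow_val, pow_succ, hN _ a.ne_zero, Units.val_one]
      rw [card_Mu (hF := hF), Nat.card_units, Nat.card_eq_fintype_card, hF] at h1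
      by_contra hne
      have h3 : 3 ≤ q := by omega
      have : 3 * q ≤ q ^ 2 := by rw [pow_two]; exact Nat.mul_le_mul_right _ h3
      omega
    subst hq2
    obtain ⟨y, hy⟩ : ∃ y, ∀ a : F, a • x ≠ y := by
      by_contra! hh
      exact h12 ⟨(finrank_eq_one_iff_of_nonzero' x hx).2 hh, rfl⟩
    have hne : ∀ a : F, y + a • x ≠ 0 := fun a e =>
      hy (-a) (by rw [neg_smul]; exact (eq_neg_of_add_eq_zero_left e).symm)
    have hy0 : y ≠ 0 := by simpa using hne 0
    have k : ∀ a : F, a ≠ 0 → a * b y x + a ^ 2 * b x y + b x x = 0 := fun a ha => by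
      have e := ex a y x
      rw [hcon _ (hne a), hcon y hy0, hN a ha] at e
      linear_combination -e
    have w0 : ω ≠ 0 := by rintro rfl; simp at hω
    have w1 : ω - 1 ≠ 0 := by rw [sub_ne_zero]; rintro rfl; simp at hω
    have w3 : ω ^ 2 + ω + 1 = 0 :=
      mul_left_cancel₀ w1 (by linear_combination hN ω w0)
    have m1 := hN (-1) (by simp)
    apply hc
    linear_combination k 1 one_ne_zero + k ω w0 + k (ω ^ 2) (pow_ne_zero _ w0) - (b y x) * w3
      - (b x y) * (ω ^ 2 - ω + 1) * w3 + (b x x) * m1
  ext x y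
  have e1 := ex 1 y x
  have e2 := ex ω y x
  simp only [h0] at e1 e2
  refine mul_left_cancel₀ (sub_ne_zero.2 hω) ?_
  simp only [LinearMap.zero_apply]
  linear_combination -e2 + ω * e1

end CL.WU.RegE
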