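import Cfsg.Agent.CLAS.WU.RegD

/-! The dual of a Singer cycle is a Singer cycle. -/

set_option autoImplicit false

namespace CL.WU.SingD

open Module CL.Witt CL.Uni Cfsg

variable {F : Type*} [Field F] [Fintype F]
  {W : Type*} [AddCommGroup W] [Module F W] [FiniteDimensional F W]
  {W' : Type*} [AddCommGroup W'] [Module F W'] [FiniteDimensional F W']

theorem tr_dual (s : W ≃ₗ[F] W) (s' : W' ≃ₗ[F] W') (h : Tr s) (b : W' → W → F)
    (sub : ∀ y x x', b y (x - x') = b y x - b y x')
    (nd : ∀ y, (∀ x, b y x = 0) → y = 0) (inv : ∀ y x, b (s' y) (s x) = b y x)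
    (hr : finrank F W' = finrank F W) : Tr s' := by
  classical
  have : Finite W := Module.finite_of_finite F
  have : Finite W' := Module.finite_of_finite F
  have : Finite (W ≃ₗ[F] W) :=
    Finite.of_injective (fun g : W ≃ₗ[F] W => (g : W → W)) DFunLike.coe_injective
  have hc : Nat.card W' = Nat.card W := by
    rw [Module.natCard_eq_pow_finrank (K := F) (V := W'), Module.natCard_eq_pow_finrank (K := F) (V := W), hr]
  have invp : ∀ (i : ℕ) y x, b ((s' ^ i) y) ((s ^ i) x) = b y x := fun i => by
    induction i with
    | zero => intro y x; rfl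
    | succ i ih => intro y x; rw [pow_succ', pow_succ', LinearEquiv.mul_apply,
        LinearEquiv.mul_apply, inv, ih]
  intro y hy y' hy'
  -- equal values of the orbit of `y` force equal powers of `s`
  have key : ∀ i j : ℕ, (s' ^ i) y = (s' ^ j) y → s ^ i = s ^ j := fun i j e => by
    rcases h.eq_zero_or_bij (t := ((s ^ i).symm : W →ₗ[F] W) - ((s ^ j).symm : W →ₗ[F] W))
      (fun x => by
        have c : ∀ k : ℕ, (s ^ k).symm (s x) = s ((s ^ k).symm x) := fun k => by
          have := (Commute.self_pow s k).inv_right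
          exact (DFunLike.congr_fun this x).symm
        simp only [LinearMap.sub_apply, LinearEquiv.coe_coe, map_sub, c]) with h0 | h0
    · have : (s ^ i).symm = (s ^ j).symm :=
        LinearEquiv.ext fun x => sub_eq_zero.1 (DFunLike.congr_fun h0 x)
      exact inv_injective this
    · refine absurd (nd y fun x => ?_) hy
      obtain ⟨z, rfl⟩ := h0.2 x
      simp only [LinearMap.sub_apply, LinearEquiv.coe_coe]
      rw [sub, ← invp i y, ← invp j y ((s ^ j).symm z), LinearEquiv.apply_symm_apply,
        LinearEquiv.apply_symm_apply, e, sub_self]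
  obtain ⟨x, hx⟩ : ∃ x : W, x ≠ 0 := by
    by_contra hn
    push Not at hn
    refine hy (nd y fun x => ?_)
    have := sub y 0 0
    rw [hn x]
    simpa using this
  -- an injection from the nonzero vectors of `W` to those of `W'`
  choose! n hn using h x hx
  let φ : {z : W // z ≠ 0} → {z : W' // z ≠ 0} := fun z =>
    ⟨(s' ^ n z) y, by simpa using hy⟩
  have hφ : Function.Injective φ := fun z z' e => by
    have e' := key _ _ (congrArg Subtype.val e)
    exact Subtype.ext (by rw [← hn z z.2, ← hn z' z'.2, e'])
  have hcard : Nat.card {z : W // z ≠ 0} = Nat.card {z : W' // z ≠ 0} := by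
    have := Fintype.ofFinite W
    have := Fintype.ofFinite W'
    simp only [Nat.card_eq_fintype_card] at hc ⊢
    rw [Fintype.card_subtype_compl, Fintype.card_subtype_compl, hc]
    simp
  obtain ⟨z, hz⟩ := (hφ.bijective_of_nat_card_le hcard.ge).2 ⟨y', hy'⟩
  exact ⟨n z, congrArg Subtype.val hz⟩

end CL.WU.SingD
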