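import Cfsg.Agent.CLAS.WU.Part
import Cfsg.Agent.CLAS.WU.Bas

/-! Restriction of the Weil characters to `GU(v^⊥) × μ_v`. -/

set_option autoImplicit false

namespace CL.WU.ZeB2

open Module CL.Witt CL.Uni Cfsg

variable {F : Type*} [Field F] [Fintype F] {q : ℕ} {hF : Fintype.card F = q ^ 2}
  {V : Type*} [AddCommGroup V] [Module F V] [FiniteDimensional F V] {f : Form (HT hF) V}

omit [FiniteDimensional F V] in
theorem mem_perp {v x : V} : x ∈ f.perp (F ∙ v) ↔ f.B v x = 0 := by
  rw [f.mem_perp]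
  refine ⟨fun h => h v (Submodule.mem_span_singleton_self v), fun h w hw => ?_⟩
  obtain ⟨c, rfl⟩ := Submodule.mem_span_singleton.1 hw
  rw [map_smulₛₗ, LinearMap.smul_apply, h, smul_zero]

theorem fd_emb_rf {v : V} (hv : f.B v v ≠ 0) (h : IsCompl (F ∙ v) (f.perp (F ∙ v)))
    (x : (f.restrict (f.perp (F ∙ v))).O) {z : Mu F q} (hz : z ≠ 1) :
    fd (emb f h x * rf f v z).1 = fd x.1 := by
  have z1 : z.val ≠ 1 := fun e => hz (Subtype.ext (Units.ext e))
  rw [fd, fd, ← Submodule.finrank_map_subtype_eq (f.perp (F ∙ v))]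
  refine congrArg (fun W : Submodule F V => finrank F W) (Submodule.ext fun y => ?_)
  rw [LinearMap.mem_ker, LinearMap.sub_apply, sub_eq_zero, Submodule.mem_map]
  change (emb f h x).1 ((rf f v z).1 y) = y ↔ _
  constructor
  · intro e
    have b : f.B v y = 0 := by
      have e1 := (emb f h x).2.1 v ((rf f v z).1 y)
      change f.B ((emb f h x).1 v) ((emb f h x).1 _) = _ at e1
      rw [e, emb_left h x (Submodule.mem_span_singleton_self v), rf_apply, map_add, map_smul, smul_eq_mul,
        left_eq_add, mul_right_comm, div_mul_cancel₀ _ hv] at e1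
      exact (mul_eq_zero.1 e1).resolve_left (sub_ne_zero.2 z1)
    rw [rf_perp b] at e
    refine ⟨⟨y, mem_perp.2 b⟩, ?_, rfl⟩
    rw [LinearMap.mem_ker, LinearMap.sub_apply, sub_eq_zero]
    exact Subtype.ext ((emb_right h x ⟨y, mem_perp.2 b⟩).symm.trans e)
  · rintro ⟨u, hu, rfl⟩
    rw [LinearMap.mem_ker, LinearMap.sub_apply, sub_eq_zero] at hu
    rw [Submodule.subtype_apply, rf_perp (mem_perp.1 u.2), emb_right]
    exact congrArg Subtype.val hu

open Classical in
theorem om_emb_rf {v : V} (hv : f.B v v ≠ 0) (h : IsCompl (F ∙ v) (f.perp (F ∙ v)))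
    (x : (f.restrict (f.perp (F ∙ v))).O) (z : Mu F q) :
    om f (emb f h x * rf f v z) =
      ((if z = 1 then (q : ℂ) + 1 else 0) - 1) * om (f.restrict (f.perp (F ∙ v))) x := by
  have v0 : v ≠ 0 := fun e => hv (by rw [e, map_zero])
  split_ifs with hz
  · rw [hz, map_one, mul_one, om_emb, finrank_span_singleton v0, pow_one, add_sub_cancel_right]
  · rw [om, om, fd_emb_rf hv h x hz, ← finrank_perp_span hv, pow_succ]
    ring

open Classical in
theorem sum_inv {A : Type*} [CommGroup A] [Fintype A] (a : A →* ℂˣ) :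
    ∑ z : A, (((a z)⁻¹ : ℂˣ) : ℂ) = if a = 1 then (Nat.card A : ℂ) else 0 := by
  split_ifs with ha
  · simp [ha]
  · refine sum_hom_units_eq_zero ((Units.coeHom ℂ).comp a⁻¹) fun e => ha (MonoidHom.ext fun z => ?_)
    have := DFunLike.congr_fun e z
    simpa using this

open Classical in
theorem part_om_rf {v : V} (hv : f.B v v ≠ 0) (h : IsCompl (F ∙ v) (f.perp (F ∙ v)))
    (a : Mu F q →* ℂˣ) (x : (f.restrict (f.perp (F ∙ v))).O) :
    part (om f) (rf f v) a (emb f h x) = if a = 1 then 0 else om (f.restrict (f.perp (F ∙ v))) x := by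
  have q1 : (q : ℂ) + 1 ≠ 0 := by exact_mod_cast Nat.succ_ne_zero q
  simp only [part, om_emb_rf hv h, ← mul_assoc, ← Finset.sum_mul, mul_sub, mul_ite, mul_zero, mul_one,
    Finset.sum_sub_distrib, Finset.sum_ite_eq', Finset.mem_univ, if_true, sum_inv, map_one, inv_one, Units.val_one,
    one_mul, card_Mu (hF := hF)]
  push_cast
  split_ifs
  · rw [sub_self, zero_mul]
  · rw [inv_mul_cancel₀ q1, sub_zero, one_mul]

open Classical in
theorem part_ze_rf {v : V} (hv : f.B v v ≠ 0) (h : IsCompl (F ∙ v) (f.perp (F ∙ v)))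
    (ν a : Mu F q →* ℂˣ) (x : (f.restrict (f.perp (F ∙ v))).O) :
    part (ze f ν) (rf f v) a (emb f h x) =
      if a = 1 then 0 else ze (f.restrict (f.perp (F ∙ v))) (ν / a) x := by
  rw [ze, part_comm (om f) (sc f) ν (rf f v) a fun z y => (sc_comm _ z).symm, part]
  have e : ∀ y, part (om f) (rf f v) a (emb f h x * sc f y) =
      a y * if a = 1 then 0 else om (f.restrict (f.perp (F ∙ v))) (x * sc _ y) := fun y => by
    rw [← emb_sc hv h y, ← mul_assoc, ← map_mul, part_mul, part_om_rf hv h]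
  simp only [e]
  split_ifs
  · simp
  · rw [ze, part]
    congr 1
    refine Finset.sum_congr rfl fun y _ => ?_
    rw [← mul_assoc, MonoidHom.div_apply, inv_div, div_eq_mul_inv, Units.val_mul, mul_comm (a y : ℂ)]

end CL.WU.ZeB2
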